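import Cfsg.Agent.H964.Rg.Ctx
import Cfsg.Agent.H70.Rg.Primes
import Cfsg.Agent.H884.ElFin
import Cfsg.Agent.AutOrth.Final

/-!
# S3691, sections 6, 7: the contexts of `PΩ⁻_2m(q)` and `PΩ⁺_2m(q)` (helper859)

* `exists_cx_minus`, `exists_cx_plus` (T18)
* `plus_six` (T20) : the full power of a primitive prime of `q ^ 6 - 1` in `|PΩ⁺_12(q)|`
-/

set_option autoImplicit false
set_option linter.unusedSectionVars false

namespace Cfsg.Agent.H859.Rg

open Module QuadraticMap Cfsg Cfsg.Geo Cfsg.Agent.LieClassical.OrthCore Cfsg.Agent.LieClassical.OrthTrans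
  Cfsg.Agent.H454.Reg Cfsg.Agent.H884.El Cfsg.Agent.H955 Cfsg.Agent.H954.TSing Cfsg.Agent.H193.Dg Cfsg.Agent.H851.Dg
  Cfsg.Agent.H449.Reg Cfsg.Agent.H964.Rg
open Cfsg.Agent.H951 (fx cm Inv)
open Cfsg.Agent.H278.Cov (Red Ext Num)
open Cfsg.Agent.LieClassical.OrthFinite (glEquiv glEquiv_apply)
open Cfsg.Agent.LieClassical.OmegaReindex
open scoped MatrixGroups Matrix

universe u v

/-- (T20) `r_6` in `PΩ⁺_12(q)` -/
theorem plus_six {F : Type} [Field F] [Fintype F] {S : Type v} [Group S] [Finite S] {p f r : ℕ}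
    (hp : p.Prime) (hf : 1 ≤ f) (hF : Fintype.card F = p ^ f)
    (hr : PP p (f * 6) r) (e : Nonempty (S ≃* POmega F (quadFormPlus 6 F))) :
    (Nat.card S).factorization r ≤ 2 * ((p ^ f) ^ 6 - 1).factorization r := by
  obtain ⟨e⟩ := e
  have hq : PP (p ^ f) 6 r := H70.Rg.pp_q hf (by omega) hr
  have hq2 : 2 ≤ p ^ f := (hp.two_le).trans (Nat.le_self_pow (by omega) p)
  have hcard := Cfsg.Agent.S0293.result hF 6 (by norm_num)
  have hS : Nat.card S = Nat.card (POmega F (quadFormPlus 6 F)) := Nat.card_congr e.toEquiv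
  rw [← hS] at hcard
  have h1 := congrArg (fun n => n.factorization r) hcard
  have hS0 : Nat.card S ≠ 0 := Nat.card_pos.ne'
  have hg0 : Nat.gcd 4 ((p ^ f) ^ 6 - 1) ≠ 0 := fun h => by
    have := (Nat.gcd_eq_zero_iff.1 h).1
    omega
  have hP0 : ∏ i ∈ Finset.range (6 - 1), ((p ^ f) ^ (2 * (i + 1)) - 1) ≠ 0 :=
    Finset.prod_ne_zero_iff.2 fun i _ => H70.Rg.pow_sub_ne hq2 (by omega)
  have hpow0 : (p ^ f) ^ (6 * (6 - 1)) ≠ 0 := pow_ne_zero _ (by omega)
  have hm0 : (p ^ f) ^ 6 - 1 ≠ 0 := H70.Rg.pow_sub_ne hq2 (by omega)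
  simp only [Nat.factorization_mul hg0 hS0, Nat.factorization_mul (mul_ne_zero hpow0 hm0) hP0,
    Nat.factorization_mul hpow0 hm0, Finsupp.add_apply] at h1
  rw [Nat.factorization_eq_zero_of_not_dvd (H70.Rg.not_dvd_gcd hq (by norm_num) _),
    Nat.factorization_eq_zero_of_not_dvd (n := (p ^ f) ^ (6 * (6 - 1))) (fun h =>
      hq.not_dvd (by omega) (hq.prime.dvd_of_dvd_pow h)), zero_add, zero_add,
    H70.Rg.fac_prod hq hq2 (j := 3) (by norm_num) (by norm_num) (by norm_num) (by norm_num)] at h1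
  omega

section row

variable {G : Type u} [Group G] [Finite G] {T X Y : Subgroup G}

theorem dvd_of_fac {S : Type*} [Finite S] [Nonempty S] {n r a : ℕ} (hr : r.Prime) (hn : n ≠ 0)
    (h : (Nat.card S).factorization r = n.factorization r) (hd : r ^ a ∣ n) : r ^ a ∣ Nat.card S := by
  rw [hr.pow_dvd_iff_le_factorization hn] at hd
  rw [hr.pow_dvd_iff_le_factorization Nat.card_pos.ne', h]
  exact hd

/-- (T18) the context of `PΩ⁻_2m(q)` -/
theorem exists_cx_minus {F : Type} [Field F] [Fintype F] {m p f : ℕ} (hm : 5 ≤ m) {a b : F}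
    (hab : ∀ z₁ z₂ : F, z₁ ^ 2 + a * z₁ * z₂ + b * z₂ ^ 2 = 0 → z₁ = 0 ∧ z₂ = 0)
    (hp : p.Prime) (hf1 : 1 ≤ f) (hF : Fintype.card F = p ^ f) [T.Normal] (hf : Fac T X Y)
    (hT : Nonempty (T ≃* POmega F (quadFormMinus (m - 1) F a b))) :
    ∃ (ι : Type) (_ : Fintype ι) (_ : DecidableEq ι) (Q : QuadraticForm F (ι → F)) (hG : Good Q) (eT : T ≃* POmega F (⇑Q))
      (hI : Ind (eP hG eT)), Cx hI X Y p f m (2 * m) ∧ ¬ IsPlus Q := by
  obtain ⟨e⟩ := hT
  have hQ : Nondeg (quadMinus (m - 1) F a b) := nondeg_iff.2 (quadMinus_nondegenerate hab)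
  have hd : Module.finrank F ((Fin (m - 1) ⊕ Fin (m - 1)) ⊕ Fin 2 → F) = 2 * m := by
    rw [Module.finrank_fintype_fun_eq_card, card_minus (by omega)]
  have hG : Good (quadMinus (m - 1) F a b) := LieClassical.OrthFinite.good_of_finite hQ (by rw [hd]; omega)
  have h1 : Nonempty (T ≃* POmega F (⇑(quadMinus (m - 1) F a b))) := by rw [coe_quadMinus]; exact ⟨e⟩
  obtain ⟨eT⟩ := h1
  have hs : Function.Surjective (Cfsg.Agent.ClassicalGeometry.OrthSemi.Psi (quadMinus (m - 1) F a b)) := by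
    have h2 : LieClassical.OrthForms.minusForm (m - 1) F a b = quadMinus (m - 1) F a b := by
      apply DFunLike.coe_injective
      rw [coe_quadMinus, LieClassical.OrthForms.coe_minusForm]
    rw [← h2]
    exact AutOrth.Final.surjective_minus (by omega) hab
  have hq2 : 2 ≤ p ^ f := (hp.two_le).trans (Nat.le_self_pow (by omega) p)
  refine ⟨(Fin (m - 1) ⊕ Fin (m - 1)) ⊕ Fin 2, inferInstance, inferInstance, quadMinus (m - 1) F a b, hG, eT,
    ind_of_surjective _ hs, ⟨hf, hp, hf1, by rw [Nat.card_eq_fintype_card, hF], card_minus (by omega),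
      data_minus (by omega) hab, le_rfl, ?_, ?_⟩, not_isPlus_quadMinus hab⟩
  · intro k r c hk hk3 hmk hkm hr hd
    exact dvd_of_fac hr.prime (H70.Rg.pow_sub_ne hq2 (by omega))
      (H70.Rg.minus_even (S := T) (by omega) hab hp hf1 hF hk hk3 hmk hkm hr ⟨e⟩).2.1 hd
  · intro k r hk hr
    have := hf.simple
    exact H370.Rg.out_ominus hf.nonab hp hf1 hF (by omega) hab ⟨e⟩ hr.prime hk hr.ord

/-- (T18) the context of `PΩ⁺_2m(q)` -/
theorem exists_cx_plus {F : Type} [Field F] [Fintype F] {m p f : ℕ} (hm : 5 ≤ m)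
    (hp : p.Prime) (hf1 : 1 ≤ f) (hF : Fintype.card F = p ^ f) [T.Normal] (hf : Fac T X Y)
    (hT : Nonempty (T ≃* POmega F (quadFormPlus m F))) :
    ∃ (ι : Type) (_ : Fintype ι) (_ : DecidableEq ι) (Q : QuadraticForm F (ι → F)) (hG : Good Q) (eT : T ≃* POmega F (⇑Q))
      (hI : Ind (eP hG eT)), Cx hI X Y p f m (2 * m - 2) ∧ IsPlus Q := by
  obtain ⟨e⟩ := hT
  have hQ : Nondeg (quadPlus m F) := nondeg_iff.2 quadPlus_nondegenerate
  have hd : Module.finrank F (Fin m ⊕ Fin m → F) = 2 * m := by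
    rw [Module.finrank_fintype_fun_eq_card, card_plus m]
  have hG : Good (quadPlus m F) := LieClassical.OrthFinite.good_of_finite hQ (by rw [hd]; omega)
  have h1 : Nonempty (T ≃* POmega F (⇑(quadPlus m F))) := by rw [coe_quadPlus]; exact ⟨e⟩
  obtain ⟨eT⟩ := h1
  have hs : Function.Surjective (Cfsg.Agent.ClassicalGeometry.OrthSemi.Psi (quadPlus m F)) := by
    have h2 : LieClassical.OrthForms.plusForm m F = quadPlus m F := by
      apply DFunLike.coe_injective
      rw [coe_quadPlus, LieClassical.OrthForms.coe_plusForm]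
    rw [← h2]
    exact AutOrth.Final.surjective_plus hm
  have hq2 : 2 ≤ p ^ f := (hp.two_le).trans (Nat.le_self_pow (by omega) p)
  refine ⟨Fin m ⊕ Fin m, inferInstance, inferInstance, quadPlus m F, hG, eT,
    ind_of_surjective _ hs, ⟨hf, hp, hf1, by rw [Nat.card_eq_fintype_card, hF], card_plus m,
      data_plus (by omega), by omega, ?_, ?_⟩, isPlus_quadPlus m⟩
  · intro k r c hk hk3 hmk hkm hr hd
    exact dvd_of_fac hr.prime (H70.Rg.pow_sub_ne hq2 (by omega))
      (H70.Rg.plus_even (S := T) (by omega) hp hf1 hF hk hk3 hmk hkm hr ⟨e⟩).2.1 hd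
  · intro k r hk hr
    have := hf.simple
    exact H370.Rg.out_oplus hf.nonab hp hf1 hF (by omega) ⟨e⟩ hr.prime hk hr.ord

end row

end Cfsg.Agent.H859.Rg
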