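import Cfsg.Agent.H859.Rg.CtxOrth

/-!
# S3691: primes of odd order for `PΩ⁻_2m(q)` (helper859)
-/

set_option autoImplicit false
set_option linter.unusedSectionVars false
set_option linter.unusedVariables false

namespace Cfsg.Agent.H859.Rg

open Module QuadraticMap Cfsg Cfsg.Geo Cfsg.Agent.LieClassical.OrthCore Cfsg.Agent.LieClassical.OrthTrans
  Cfsg.Agent.H454.Reg Cfsg.Agent.H884.El Cfsg.Agent.H955 Cfsg.Agent.H954.TSing Cfsg.Agent.H193.Dg Cfsg.Agent.H851.Dg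
  Cfsg.Agent.H449.Reg Cfsg.Agent.H964.Rg
open scoped MatrixGroups Matrix

universe u v

theorem pp_two_six : orderOf (((2 ^ 2 : ℕ) : ℕ) : ZMod 7) = 3 := by
  have := Fact.mk (by norm_num : Nat.Prime 7)
  exact orderOf_eq_prime (by decide) (by decide)

/-- `t ∣ |PΩ⁻_2m(q)|` for a primitive prime `t` of `q ^ k - 1`, `k` odd, `k < m` -/
theorem minus_odd' {S : Type v} [Group S] [Finite S] {F : Type} [Field F] [Fintype F] {m k r : ℕ} (hm : 4 ≤ m)
    {a b : F} (hab : ∀ z₁ z₂ : F, z₁ ^ 2 + a * z₁ * z₂ + b * z₂ ^ 2 = 0 → z₁ = 0 ∧ z₂ = 0)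
    {p f : ℕ} (hp : p.Prime) (hf : 1 ≤ f)
    (hF : Fintype.card F = p ^ f) (hk3 : 3 ≤ k) (hkm : k < m)
    (hq : PP (p ^ f) k r) (e : Nonempty (S ≃* POmega F (quadFormMinus (m - 1) F a b))) : r ∣ Nat.card S := by
  obtain ⟨e⟩ := e
  have hq2 : 2 ≤ p ^ f := (hp.two_le).trans (Nat.le_self_pow (by omega) p)
  have hcard := Cfsg.Agent.S0294.result hF m hm a b hab
  have hS : Nat.card S = Nat.card (POmega F (quadFormMinus (m - 1) F a b)) := Nat.card_congr e.toEquiv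
  rw [← hS] at hcard
  have h1 : r ∣ Nat.gcd 4 ((p ^ f) ^ m + 1) * Nat.card S := by
    rw [hcard]
    exact (H70.Rg.dvd_prod hq hq2 (by omega) (by omega)).mul_left _
  exact (hq.prime.dvd_mul.1 h1).resolve_left (H70.Rg.not_dvd_gcd hq hk3 _)

section row

variable {G : Type u} [Group G] [Finite G] {T X Y : Subgroup G}

/-- primitive primes of odd order: in `|T|`, not in `|Out T|` -/
theorem odd_minus {F : Type} [Field F] [Fintype F] {m p f : ℕ} (hm : 5 ≤ m) {a b : F}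
    (hab : ∀ z₁ z₂ : F, z₁ ^ 2 + a * z₁ * z₂ + b * z₂ ^ 2 = 0 → z₁ = 0 ∧ z₂ = 0)
    (hp : p.Prime) (hf1 : 1 ≤ f) (hF : Fintype.card F = p ^ f) (hq : m ≤ 7 → 3 ≤ p ^ f) [T.Normal] (hf : Fac T X Y)
    (hT : Nonempty (T ≃* POmega F (quadFormMinus (m - 1) F a b))) :
    ∀ k, Odd k → 3 ≤ k → k < m →
      ∃ t, PP (Nat.card F) k t ∧ ¬ t ∣ Nat.card (Cfsg.Out T) ∧ t ∣ Nat.card T := by
  intro k hk hk3 hkm
  have := hf.simple
  have hcF : Nat.card F = p ^ f := by rw [Nat.card_eq_fintype_card, hF]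
  rw [hcF]
  by_cases h6 : p = 2 ∧ f * k = 6
  · obtain ⟨rfl, h6⟩ := h6
    have hf2 : f = 2 ∧ k = 3 := by
      have h1 : k ∣ 6 := Dvd.intro_left _ h6
      have h2 : k ≤ 6 := Nat.le_of_dvd (by norm_num) h1
      obtain ⟨j, hj⟩ := hk
      have h3 : k = 3 ∨ k = 5 := by omega
      rcases h3 with h3 | h3
      · exact ⟨by rw [h3] at h6; omega, h3⟩
      · rw [h3] at h6
        omega
    obtain ⟨rfl, rfl⟩ := hf2
    have hPP : PP (2 ^ 2) 3 7 := ⟨by norm_num, pp_two_six⟩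
    refine ⟨7, hPP, ?_, minus_odd' (by omega) hab hp hf1 hF le_rfl hkm hPP hT⟩
    obtain ⟨e⟩ := hT
    refine H370.Rg.not_dvd_out_of hf.nonab (.ominus m 2 2)
      ⟨F, inferInstance, inferInstance, a, b, hF, hab, ⟨e⟩⟩
      (by rw [Nat.card_congr e.toEquiv]; exact H902.Names.ominus_real hp hf1 hF (by omega) hab)
      (by norm_num) (by norm_num) (by norm_num) ?_
    intro h
    have h1 : (7 : ℕ) ∣ 4 := h.trans (Nat.gcd_dvd_left 4 ((2 ^ 2) ^ m + 1))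
    exact absurd h1 (by norm_num)
  · obtain ⟨r, hr, ho, -, -⟩ := H370.Rg.exists_rk (p := p) (f := f) (k := k) hp
      (hk3.trans (Nat.le_mul_of_pos_left k (by omega))) h6
    have hPP : PP (p ^ f) k r := H70.Rg.pp_q hf1 (by omega) ⟨hr, ho⟩
    refine ⟨r, hPP, ?_, minus_odd' (by omega) hab hp hf1 hF hk3 hkm hPP hT⟩
    exact H370.Rg.out_ominus hf.nonab hp hf1 hF (by omega) hab hT hr hk3 ho

end row

end Cfsg.Agent.H859.Rg
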